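import Cfsg.Agent.KFacts.MulP.Words
import Cfsg.Agent.KFacts.MulP.JTwoAAll
import Cfsg.Agent.KFacts.MulP.JTwoBAll
import Cfsg.Agent.KFacts.MulP.JTwoCAll
import Cfsg.Agent.J2Sylow.SporSylow

/-!
# The 2-part of the multiplier of the Hall–Janko group has order at most 2

Four elements of class 3A: `⟨b₀⟩ < ⟨b₀, b₁⟩ = SL₂(3) < ⟨b₀, b₁, b₂⟩ = U₃(3)`, and four of them generate. All relators are of the form
`u⁻¹ x u = y` with letters `x, y`, so they hold for the lifts of order 3 in every perfect central extension by a 2-group;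
coset enumerations with 8, 252 and 200 cosets give the order `3 * 8 * 252 * 200 = 2 |J₂|`.
-/

set_option autoImplicit false

namespace Cfsg.Agent.KFacts.MulP.JTwo

open Subgroup Cfsg.Agent.SporadicRecognition.CosetCert Cfsg.Agent.SporadicRecognition.CosetCertHyp
open Cfsg.Agent.KFacts.OddLift.Basic Cfsg.Agent.KFacts.MulP.Words
open Cfsg.Agent.J2.HundredGens
open Cfsg.Agent.SporadicA.J2Hundred (G gens)

universe u v

/-- the four letters as words in the five involutions -/
def W (i : ℕ) : List ℕ :=
  [[0, 1, 2, 3, 4, 2, 1, 0], [3, 2, 3, 1, 0, 1, 2, 3, 4, 3, 2, 0, 1, 0, 1, 2, 3], [4, 2, 3, 2],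
    [1, 2, 3, 4, 3, 2, 3, 0, 1]].getD i []

/-- the five involutions as words in the four letters -/
def V (k : ℕ) : List ℕ :=
  [[1, 4, 6, 1, 3, 1, 6, 2, 5, 0], [6, 0, 3, 6, 5, 3, 5, 1, 7, 0], [3, 0, 4, 7, 0, 5, 7, 5, 0, 2],
    [6, 0, 6, 0, 3, 4, 0, 4, 2, 0], [3, 4, 7, 1, 7, 0, 5, 2]].getD k []

theorem val : Val gw where
  nil := rfl
  append u v := Subtype.ext (pw_append u v)
  rev w := Subtype.ext (pw_reverse w)

theorem gw_eq_one {w : List ℕ} (h : chk w [] = true) : gw w = 1 := Subtype.ext (pw_eq h)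

/-- the letters -/
noncomputable def b (i : ℕ) : G := gw (W i)

theorem cubes : ((List.range 4).all fun i => chk (W i ++ W i ++ W i) []) = true := by decide +kernel

theorem odd_b (i : ℕ) : Odd (orderOf (b i)) := by
  by_cases h : i < 4
  · apply odd_of_cube
    have h1 := gw_eq_one (List.all_eq_true.1 cubes i (List.mem_range.2 h))
    rw [val.append, val.append] at h1
    exact h1
  · have h1 : W i = [] := List.getD_eq_default _ _ (not_lt.1 h)
    have h2 : b i = 1 := by
      unfold b
      rw [h1]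
      exact val.nil
    rw [h2, orderOf_one]
    exact odd_one

theorem ltA : (JTwoAData.rels.all fun r => r.all fun y => Nat.blt y (2 * 4)) = true := by decide +kernel
theorem ltB : (JTwoBData.rels.all fun r => r.all fun y => Nat.blt y (2 * 4)) = true := by decide +kernel
theorem ltC : (JTwoCData.rels.all fun r => r.all fun y => Nat.blt y (2 * 4)) = true := by decide +kernel

theorem chkA : (JTwoAData.rels.all fun r => chk (ex W r) []) = true := by decide +kernel
theorem chkB : (JTwoBData.rels.all fun r => chk (ex W r) []) = true := by decide +kernel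
theorem chkC : (JTwoCData.rels.all fun r => chk (ex W r) []) = true := by decide +kernel

theorem okA : (JTwoAData.rels.all fun r => okr [] r) = true := by decide +kernel
theorem okB : (JTwoBData.rels.all fun r => okr [] r) = true := by decide +kernel
theorem okC : (JTwoCData.rels.all fun r => okr [] r) = true := by decide +kernel

theorem stA : stepOK JTwoAData.C JTwoAData.rels JTwoAData.subw 2 1 = true := by decide +kernel
theorem stB : stepOK JTwoBData.C JTwoBData.rels JTwoBData.subw 3 2 = true := by decide +kernel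
theorem stC : stepOK JTwoCData.C JTwoCData.rels JTwoCData.subw 4 3 = true := by decide +kernel

theorem mem_V : ∀ k, k < 5 → gw [k] ∈ clo b 4 := by
  intro k hk
  have h1 : ((List.range 5).all fun k => chk (ex W (V k)) [k]) = true := by decide +kernel
  have h2 : ((List.range 5).all fun k => (V k).all fun y => Nat.blt y (2 * 4)) = true := by decide +kernel
  have h3 : gw [k] = gw (ex W (V k)) :=
    Subtype.ext (pw_eq (List.all_eq_true.1 h1 k (List.mem_range.2 hk))).symm
  rw [h3]
  exact val.mem W (List.all_eq_true.1 h2 k (List.mem_range.2 hk))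

theorem gen_eq : clo b 4 = ⊤ := by
  have hle : gens ⊆ ((clo b 4).map G.subtype : Subgroup (Equiv.Perm (Fin 100))) := by
    have h1 : ∀ k, pw [k] = gen k := fun k => by rw [pw_cons, pw_nil, mul_one]
    have h2 : ∀ k, k < 5 → gen k ∈ (clo b 4).map G.subtype := fun k hk => ⟨_, mem_V k hk, h1 k⟩
    rintro s (rfl | rfl | rfl | rfl | rfl)
    · exact h2 0 (by norm_num)
    · exact h2 1 (by norm_num)
    · exact h2 2 (by norm_num)
    · exact h2 3 (by norm_num)
    · exact h2 4 (by norm_num)
  rw [eq_top_iff]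
  rintro ⟨g, hg⟩ -
  obtain ⟨g', h1, h2⟩ := (Subgroup.closure_le _).2 hle hg
  have e : g' = ⟨g, hg⟩ := Subtype.ext h2
  rwa [← e]

theorem card_ker_le_G {L : Type*} [Group L] {π : L →* G} (h : Cov π) : Finite L ∧ Nat.card π.ker ≤ 2 := by
  obtain ⟨B, hB, hBo⟩ := h.exists_lifts (b := b) odd_b
  have hrA := h.rels_eq_one hB hBo (n := 4) (odd := []) (by simp) okA
    (val.rels W (fun w hw => gw_eq_one hw) ltA chkA)
  have hrB := h.rels_eq_one hB hBo (n := 4) (odd := []) (by simp) okB
    (val.rels W (fun w hw => gw_eq_one hw) ltB chkB)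
  have hrC := h.rels_eq_one hB hBo (n := 4) (odd := []) (by simp) okC
    (val.rels W (fun w hw => gw_eq_one hw) ltC chkC)
  have h0 : B 0 ^ 3 = 1 := by
    refine h.eq_of_odd ?_ (by rw [orderOf_one]; exact odd_one) ?_
    · exact odd_pow (hBo 0) 3
    · rw [map_pow, hB, map_one]
      have h1 := gw_eq_one (List.all_eq_true.1 cubes 0 (List.mem_range.2 (by norm_num)))
      rw [val.append, val.append] at h1
      rw [pow_succ, pow_two]
      exact h1
  have s1 := base (B := B) (k := 3) (by norm_num) h0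
  have s2 := step (B := B) JTwoAData.C JTwoAData.rels JTwoAData.subw (k := 4) (by norm_num) stA hrA JTwoAAll.part s1
  have s3 := step (B := B) JTwoBData.C JTwoBData.rels JTwoBData.subw (k := 4) (by norm_num) stB hrB JTwoBAll.part s2
  have s4 := step (B := B) JTwoCData.C JTwoCData.rels JTwoCData.subw (k := 4) (by norm_num) stC hrC JTwoCAll.part s3
  have hG := Cfsg.Agent.SporadicA.J2Hundred.card_G
  refine h.card_ker_le hB gen_eq (by rw [hG]; norm_num) ⟨s4.1, ?_⟩
  rw [hG]
  exact s4.2

/-- **The 2-part of the multiplier of `J₂`.** -/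
theorem card_ker_le {L : Type u} {X : Type v} [Group L] [Group X] (hX : Cfsg.Spor.IsoJ2 X) {π : L →* X} (h : Cov π) :
    Finite L ∧ Nat.card π.ker ≤ 2 := by
  obtain ⟨e⟩ := hX
  obtain ⟨f⟩ := J2_iso Cfsg.Agent.J2Sylow.SporSylow.card_J2
  have h1 := card_ker_le_G (cov_equiv h (e.trans f))
  rwa [ker_equiv] at h1

/-- for central quotients -/
theorem card_le {K : Type u} [Group K] (hK : commutator K = ⊤) (Z : Subgroup K) [Z.Normal]
    (hZ : Z ≤ center K) (h2 : IsPGroup 2 Z) (hX : Cfsg.Spor.IsoJ2 (K ⧸ Z)) : Nat.card Z ≤ 2 := by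
  have hk := QuotientGroup.ker_mk' Z
  have hc : Cov (QuotientGroup.mk' Z) :=
    ⟨QuotientGroup.mk'_surjective _, by rw [hk]; exact hZ, by rw [hk]; exact h2, hK⟩
  have h1 := (card_ker_le hX hc).2
  rwa [hk] at h1

/-- without the assumption that the kernel is a 2-group -/
theorem not_four_dvd {X : Type v} [Group X] (hX : Cfsg.Spor.IsoJ2 X) {K : Type u} [Group K] [Finite K]
    (hK : commutator K = ⊤) {f : K →* X} (hf : Function.Surjective f) (hZ : f.ker ≤ center K) :
    ¬ 4 ∣ Nat.card f.ker :=
  not_dvd_of_cov (e := 3) (fun L _ _ _ h => Nat.lt_succ_of_le (card_ker_le hX h).2) hK hf hZ (j := 2) (by norm_num)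

end Cfsg.Agent.KFacts.MulP.JTwo
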