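import Cfsg.Agent.SporadicRecognition.CosetCert

set_option autoImplicit false
set_option maxRecDepth 100000

namespace Cfsg.Agent.KFacts.MulP.JTwoAData

open Cfsg.Agent.SporadicRecognition.CosetCert

noncomputable def tree : Tr := (.L 0xffdb479e087e0fff761a4619530ffd464d9135dc7ff414f5390b20ffd97720923547ff2085159d262ffc311ccc5290fff18c4208411f)

noncomputable def wtree : WT := (.N 3 (.N 1 (.L 2 [3,3]) (.N 2 (.L 0 [1,1]) (.L 2 [0,3,1,2,1]))) (.N 5 (.N 4 (.L 2 [1,2,1,3,0]) (.L 3 [1,3,0,3,1])) (.N 6 (.L 3 [2,2]) (.L 0 [3,0,3,1,2]))))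

noncomputable def stree : ST := (.L 0 [] [])

noncomputable def C : Cert where
  data := tree
  lm := 15
  rb := 54
  fb := 10
  mask := 1023
  B := 16
  k := 4
  N := 8
  inv := fun x => bif Nat.beq x 0 then 1 else bif Nat.beq x 1 then 0 else bif Nat.beq x 2 then 3 else bif Nat.beq x 3 then 2 else x
  words := wtree
  subs := stree

def rels : List (List Nat) := [[0,0,0], [2,2,2], [0,2,1,2,0,3]]

def subw : List (List Nat) := [[0]]

end Cfsg.Agent.KFacts.MulP.JTwoAData
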