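import Cfsg.Agent.KFacts.MulP.MTtAData

set_option autoImplicit false
set_option maxRecDepth 100000

namespace Cfsg.Agent.KFacts.MulP.MTtAChk0

open Cfsg.Agent.SporadicRecognition.CosetCert Cfsg.Agent.KFacts.MulP.MTtAData

theorem c0 : Part C 0 40 40 := runChunk_sound C 40 (by decide +kernel : runChunk C 8 255 0x102d302c3020102a30201020102f302010202e30102f3020102d3020102d3020102d302b3020201c3020113c3020201c3020113c302020102630113c3020201c3020113a302020153020113023302019302011383020201730201134302020123020113020102020103020202010202010302020201020201030202020102020103020202020201020201130202020102020113020102020103020202020205 1 1 0 0 40 = 41)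

theorem all : Part C 0 40 40 := c0

end Cfsg.Agent.KFacts.MulP.MTtAChk0
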