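import Cfsg.Agent.KFacts.MulP.MTtBData

set_option autoImplicit false
set_option maxRecDepth 100000

namespace Cfsg.Agent.KFacts.MulP.MTtBChk0

open Cfsg.Agent.SporadicRecognition.CosetCert Cfsg.Agent.KFacts.MulP.MTtBData

theorem c0 : Part C 0 56 42 := runChunk_sound C 42 (by decide +kernel : runChunk C 11 2047 0x28600801001004009f9802004b0c013a3002008010027a600800802366009398023860082980200500c0100100400859802004005698c3004e4c013a300200969802004008010010c600801193004e4c69802004004010c3004b0c2980200228c010020020080100336600801373766b0da1803004004010c3004ccc010027c6f0c00802004008012f300428c01001004b0c0100200200969802004acc01001546008010c350600800803366009398020000000000000200000002386008012435460080100100000000000004000008430040045980200474c0104300204c49802346008010f3286acc0100146600969a936a638c00803004c0d8988300000000000000004000000000000000000228ca9800000000000004e80080100138660c29a432e628c008430000000000000000400000000000000000020000000000460c012e36c6008010010000000000042644c00843004004012e3004008ca194004005c1b2300428c0104300204c498023c8790f21e4286008010010040080119300400800803004008010020000000000000244c01000000000000000000000100100040c000000000000084300404c008024a600801223000000000000000040000000040c0000000228c920f3004450010024a6008010010040000000000000000843004004010024a880d2a25400204c698023660080100200400859802004004010c3004004010020040080100200204c498020040080100200438c298020041cc01001004008010230c628c00843004004010020040080100200204c4980200400801002004008010010040080108300400800803066008010020040080100200405401005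 19 524287 0x43e2e0000000f3000000000000000000021f27002cc007d8000000266e0e4e0000000f3000000000000000000000000002473105c670b800000026cf389c000038307000000000000000000000000000000000000000000000000000000000 0 56 = 43)

theorem all : Part C 0 56 42 := c0

end Cfsg.Agent.KFacts.MulP.MTtBChk0
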