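import Cfsg.Agent.KFacts.MulP.MTtDData

set_option autoImplicit false
set_option maxRecDepth 100000

namespace Cfsg.Agent.KFacts.MulP.MTtDChk0

open Cfsg.Agent.SporadicRecognition.CosetCert Cfsg.Agent.KFacts.MulP.MTtDData

theorem c0 : Part C 0 56 56 := runChunk_sound C 56 (by decide +kernel : runChunk C 9 511 0x809a6023980804010100802130110c040111808021331c4c04011980804010100404020080c04020080804130100404c30080c04020100404020080c04f300809a6020100404130080d66e30100606020080c04020100404e30080c04c30100404a301005a6830080c04c30080926a30100804013980802133180804013980802130100804010100802132980804010100c02131980804010100802130100804010100802130110c04013980802130100804011180802130100404020080c04020100404020080c04020100404020080c04020100404020080c04020100804010100802130100804010100802130100404020080c0402010080405 1 1 0 0 56 = 57)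

theorem all : Part C 0 56 56 := c0

end Cfsg.Agent.KFacts.MulP.MTtDChk0
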