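import Cfsg.Agent.SporadicRecognition.CosetCert

set_option autoImplicit false
set_option maxRecDepth 100000

namespace Cfsg.Agent.KFacts.MulP.MTtDData

open Cfsg.Agent.SporadicRecognition.CosetCert

noncomputable def tree : Tr := (.N 32 (.N 16 (.L 0xfffcd526880b4831447fff2c38a47647d81e2fffc9c72b3d71d5870ffff26308c6546d49a2fffc84625353994a60ffff2028745445d0962fffc6c51f2cf953c50ffff1a205c4384cd122fffc5441924c112e40ffff2a3ca0e14184430fffc90d22303c3131c7fff1e2c70a0e102c20fffc60916202420d147fff0808141121c4062fffc0c1070c3050a10ffff060c1020204041f) (.L 0xfffd9d06a4a0e7bbc4ffffb6c6c3066798cf0fffeaef62757cf657c7fff617aaaf5e716ce0fffe3ea5a655ce5d747fffa2ba72d56694cd0fffe62c94ad44d556c7fff59723aa506134c0fffd313738d24c4f647fff475d21746590cb0fffe22986a104b455c7fff809dfa64050f4a0fffde257690eca3f547fff728d2d83a48dc90fffda603640cc9394c7fff6e89b213240bc80)) (.N 48 (.L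 0xfffebdfb7c6d25b288ffffa976b1eae86ff23fffe92da16e9aba790bfff9b6e8eea0a27aa3fffe6ab976b5b7d0d8bfff936a66c969296e3fffe359907276d92a0ffff8aa21d68c8f0f32fffe15689a646a9fb4ffff8299fd5b9c61202fffdf55819f2b5c6d0ffff7a91dd47c8acf02fffdd547996a2e95acffff7461c53c2ce2e92fffdc216d46c707b94bfff6b45be2becab6f3) (.L 0xffff6f2dedf7f8e0e0ffffdde36b2d8db56c0ffff535d2cf3ecd7dc7fffcecf4f6ccd32660ffff1f4c8d3166cbd47fffd1db375c4a70630ffff677dce302fbd843fffb8c2d5fbc82ea72)))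

noncomputable def wtree : WT := (.N 9 (.N 4 (.N 2 (.N 1 (.L 2 [3,3]) (.L 0 [1,1])) (.N 3 (.L 3 [1,3,1,3,0,2,0,3,0]) (.L 3 [0,2,0,3,1,2,1,3,1]))) (.N 6 (.N 5 (.L 2 [0,2,1,3,1,3,0,2,0]) (.L 3 [0,3,1,2,1,3,1,2,0])) (.N 7 (.L 3 [0,3,0,2,1,3,1,3,0]) (.N 8 (.L 3 [2,2]) (.L 0 [2,1,3,1,2,0,2,0,3]))))) (.N 13 (.N 11 (.N 10 (.L 1 [2,1,3,1,3,0,2,0,3]) (.L 0 [2,0,2,0,3,1,2,1,3])) (.N 12 (.L 1 [3,0,2,1,3,1,3,0,2]) (.L 0 [3,1,3,0,2,0,3,0,2]))) (.N 15 (.N 14 (.L 1 [2,0,3,1,2,1,3,1,2]) (.L 0 [3,1,2,0,2,0,3,1,2])) (.N 16 (.L 0 [3,0,2,0,3,0,2,1,3]) (.N 17 (.L 1 [2,0,3,0,2,1,3,1,3]) (.L 2 [0,2,0,3,0,2,1,3,1]))))))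

noncomputable def stree : ST := (.L 0 [] [])

noncomputable def C : Cert where
  data := tree
  lm := 15
  rb := 74
  fb := 14
  mask := 16383
  B := 64
  k := 4
  N := 56
  inv := fun x => bif Nat.beq x 0 then 1 else bif Nat.beq x 1 then 0 else bif Nat.beq x 2 then 3 else bif Nat.beq x 3 then 2 else x
  words := wtree
  subs := stree

def rels : List (List Nat) := [[0,0,0], [2,2,2], [0,2,0,3,0,2,1,3,1,3]]

def subw : List (List Nat) := [[0]]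

end Cfsg.Agent.KFacts.MulP.MTtDData
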