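import Cfsg.Agent.KFacts.MulP.MTtEChk0
import Cfsg.Agent.KFacts.MulP.MTtEChk1
import Cfsg.Agent.KFacts.MulP.MTtEChk2
import Cfsg.Agent.KFacts.MulP.MTtEChk3
import Cfsg.Agent.KFacts.MulP.MTtEChk4
import Cfsg.Agent.KFacts.MulP.MTtEChk5
import Cfsg.Agent.KFacts.MulP.MTtEChk6
import Cfsg.Agent.KFacts.MulP.MTtEChk7
import Cfsg.Agent.KFacts.MulP.MTtEChk8
import Cfsg.Agent.KFacts.MulP.MTtEChk9
import Cfsg.Agent.KFacts.MulP.MTtEChk10
import Cfsg.Agent.KFacts.MulP.MTtEChk11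
import Cfsg.Agent.KFacts.MulP.MTtEChk12
import Cfsg.Agent.KFacts.MulP.MTtEChk13
import Cfsg.Agent.KFacts.MulP.MTtEChk14
import Cfsg.Agent.KFacts.MulP.MTtEChk15

set_option autoImplicit false
set_option maxRecDepth 100000

namespace Cfsg.Agent.KFacts.MulP.MTtEAll

open Cfsg.Agent.SporadicRecognition.CosetCert Cfsg.Agent.KFacts.MulP.MTtEData

theorem part : Part C 0 C.N 5280 := (((((((((((((((Cfsg.Agent.KFacts.MulP.MTtEChk0.all).append C Cfsg.Agent.KFacts.MulP.MTtEChk1.all).append C Cfsg.Agent.KFacts.MulP.MTtEChk2.all).append C Cfsg.Agent.KFacts.MulP.MTtEChk3.all).append C Cfsg.Agent.KFacts.MulP.MTtEChk4.all).append C Cfsg.Agent.KFacts.MulP.MTtEChk5.all).append C Cfsg.Agent.KFacts.MulP.MTtEChk6.all).append C Cfsg.Agent.KFacts.MulP.MTtEChk7.all).append C Cfsg.Agent.KFacts.MulP.MTtEChk8.all).append C Cfsg.Agent.KFacts.MulP.MTtEChk9.all).append C Cfsg.Agent.KFacts.MulP.MTtEChk10.all).append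 C Cfsg.Agent.KFacts.MulP.MTtEChk11.all).append C Cfsg.Agent.KFacts.MulP.MTtEChk12.all).append C Cfsg.Agent.KFacts.MulP.MTtEChk13.all).append C Cfsg.Agent.KFacts.MulP.MTtEChk14.all).append C Cfsg.Agent.KFacts.MulP.MTtEChk15.all

end Cfsg.Agent.KFacts.MulP.MTtEAll
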