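import Cfsg.Agent.SporadicA.PermTab
import Cfsg.Agent.SporadicA.MathieuRecog
import Cfsg.Agent.SporadicStructure.DodecadM12
import Cfsg.Prelude.Def_Spor_Mathieu

/-!
# `M₂₂` as a permutation group on 24 points generated by five elements of order 3

`G22 = ⟨pp 0, …, pp 4⟩`, `equiv : Spor.M22 ≃* G22`; the first four letters generate `A₇`, the first two `A₅`.
-/

set_option autoImplicit false

namespace Cfsg.Agent.KFacts.MulP.MTtModel

open Equiv Cfsg.Agent.SporadicA.PermTab Cfsg.Agent.SporadicStructure Cfsg

/-- the letters, 11 bits per point -/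
def tb (i : ℕ) : ℕ := [0x2e0080400d02c04807810008014058150280280380c0020380301100604c04800,
  0x2e0200980901a028010100180380a80702c0180200b01e0480281400600408800,
  0x2e054048080020380681002800c038130040280b00f0220180280b02401006000,
  0x2e04c088040040480580e0180140080702a0280a00d01e0180800900605804000,
  0x2e0200680500800c0880701e04c0500c028054090060020580580e01200808000].getD i 0

/-- the inverses of the letters -/
def ti (i : ℕ) : ℕ := [0x2e04c0600b004048020100220180a00801a028008150120140700f00605803800,
  0x2e02c0680402a0180081000e0380980f0100480a0160180280280900604401000,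
  0x2e0240b00f01800c03810010048088010080280a81401a0180280201c02c09800,
  0x2e0080580902c0480a80500e0400400f022028020010180180701400604c06800,
  0x2e0180500b01c0240880101e0100a80c00a034018160200200a01302400803800].getD i 0

/-- the letters, 5 bits per point -/
def td (i : ℕ) : ℕ := [0xb890db49f021575a28ec0b8d11cd20,
  0xba2696a85063aa7b188b7c8b418620,
  0xbd5280b9b0a0cf312acf898ab91180,
  0xbce241496e61427aaa8d79a091d900,
  0xba1a520e277cd4ca56460d96e48a00].getD i 0

theorem chk_tb : ∀ i : Fin 5, chkInv 24 (tb i) (ti i) = true := by decide +kernel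

/-- the letters -/
def pp (i : Fin 5) : Perm (Fin 24) := mkPerm (tb i) (ti i) (chk_tb i)

/-- the group -/
def G22 : Subgroup (Perm (Fin 24)) := Subgroup.closure (Set.range pp)

theorem pp_mem (i : Fin 5) : pp i ∈ G22 := Subgroup.subset_closure ⟨i, rfl⟩

theorem inG (i : Fin 5) : InG G22 (tb i) := ⟨pp i, pp_mem i, fun _ => rfl⟩

/-! ### the order is at least 443520 -/

/-- words in the letters, the first one applied first -/
def wd (L : List (Fin 5)) : List ℕ := L.map fun i : Fin 5 => tb i

theorem inW {S : ℕ} (L : List (Fin 5)) (h : chkWord 24 S (wd L) = true) : InG G22 S := by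
  refine InG.word (L := wd L) ?_ h
  intro P hP
  obtain ⟨i, -, rfl⟩ := List.mem_map.1 hP
  exact inG i

/-- a strong generator of level 1 -/
def s10 : ℕ := 0x2e0100601400400c07007022058028060140540800d02402c0980f01202000800

/-- a strong generator of level 1 -/
def s11 : ℕ := 0x2e0300401301e0280480e00400c0a00b0220180a8160080140800d02401c00800

/-- a strong generator of level 2 -/
def s20 : ℕ := 0x2e0540480401e0480880601a00c0980b0100400b00c0280280700700a00800800

/-- a strong generator of level 2 -/
def s21 : ℕ := 0x2e02c0a81400e00c080080120580900501c03c0501100c04c0200c01a00800800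

/-- a strong generator of level 3 -/
def s30 : ℕ := 0x2e030078130280400881202a038040160080180380d0120280280b00600800800

/-- a strong generator of level 3 -/
def s31 : ℕ := 0x2e04c0a00d014048070070080140a80b0100580800c01203c0880600600800800

/-- a strong generator of level 3 -/
def s32 : ℕ := 0x2e04c0200c02c028088060160380381401e0480400901a0400281500600800800

/-- a strong generator of level 4 -/
def s40 : ℕ := 0x2e0400480b0280180280d0240440b0070260300401501403c0700400600800800

/-- orbit certificate of level 0 -/
def c0 : ℕ := 0xffe040088100140680881403205005811024070080130100600d818038024007ff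

/-- orbit certificate of level 1 -/
def c1 : ℕ := 0xffe060140110100a4140200120800c0200500841402003206408010060003fffff

/-- orbit certificate of level 2 -/
def c2 : ℕ := 0xffe064140280400241882903002008818022084100200600a008021001ffffffff

/-- orbit certificate of level 3 -/
def c3 : ℕ := 0xffe06005019040083ff81a013ffc0881101006010018034047ff800fffffffffff

/-- orbit certificate of level 4 -/
def c4 : ℕ := 0xffffffffffffffffc047ffffe043fffffffffffffffffffffc007fffffffffffff

theorem in10 : InG G22 s10 := inW [0, 0, 4] (by decide +kernel)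
theorem in11 : InG G22 s11 := inW [1, 2, 3] (by decide +kernel)
theorem in20 : InG G22 s20 := inW [2, 4, 4, 3, 4] (by decide +kernel)
theorem in21 : InG G22 s21 := inW [3, 0, 4, 3, 0] (by decide +kernel)
theorem in30 : InG G22 s30 := inW [0, 1, 4, 4, 3, 4, 1] (by decide +kernel)
theorem in31 : InG G22 s31 := inW [0, 4, 1, 3, 4, 4, 3] (by decide +kernel)
theorem in32 : InG G22 s32 := inW [1, 0, 1, 4, 4, 3, 4] (by decide +kernel)
theorem in40 : InG G22 s40 := inW [1, 3, 2, 4, 1, 2, 3, 4] (by decide +kernel)

theorem ps10 : InG (ps G22 1) s10 := (in10).ps (x := 1) (by decide +kernel)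
theorem ps11 : InG (ps G22 1) s11 := (in11).ps (x := 1) (by decide +kernel)
theorem ps20 : InG (ps (ps G22 1) 2) s20 := ((in20).ps (x := 1) (by decide +kernel)).ps (x := 2) (by decide +kernel)
theorem ps21 : InG (ps (ps G22 1) 2) s21 := ((in21).ps (x := 1) (by decide +kernel)).ps (x := 2) (by decide +kernel)
theorem ps30 : InG (ps (ps (ps G22 1) 2) 3) s30 := (((in30).ps (x := 1) (by decide +kernel)).ps (x := 2) (by decide +kernel)).ps (x := 3) (by decide +kernel)
theorem ps31 : InG (ps (ps (ps G22 1) 2) 3) s31 := (((in31).ps (x := 1) (by decide +kernel)).ps (x := 2) (by decide +kernel)).ps (x := 3) (by decide +kernel)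
theorem ps32 : InG (ps (ps (ps G22 1) 2) 3) s32 := (((in32).ps (x := 1) (by decide +kernel)).ps (x := 2) (by decide +kernel)).ps (x := 3) (by decide +kernel)
theorem ps40 : InG (ps (ps (ps (ps G22 1) 2) 3) 4) s40 := ((((in40).ps (x := 1) (by decide +kernel)).ps (x := 2) (by decide +kernel)).ps (x := 3) (by decide +kernel)).ps (x := 4) (by decide +kernel)

theorem memL {H : Subgroup (Perm (Fin 24))} {P : ℕ} {L : List ℕ} (hP : InG H P) (hL : ∀ R ∈ L, InG H R) :
    ∀ R ∈ P :: L, InG H R := by
  intro R hR
  rcases List.mem_cons.1 hR with rfl | h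
  · exact hP
  · exact hL R h

theorem memN {H : Subgroup (Perm (Fin 24))} : ∀ R ∈ ([] : List ℕ), InG H R := by
  intro R hR
  exact absurd hR List.not_mem_nil

theorem card_ge : 443520 ≤ Nat.card G22 := by
  have h4 : 3 * (1) ≤ Nat.card (ps (ps (ps (ps G22 1) 2) 3) 4) :=
    card_ge_of_chk (x := 5) (P0 := s40) (L := [s40]) (C := c4) ps40 (memL ps40 memN) (by decide +kernel)
      (by decide +kernel) Nat.card_pos
  have h3 : 16 * (3 * (1)) ≤ Nat.card (ps (ps (ps G22 1) 2) 3) :=
    card_ge_of_chk (x := 4) (P0 := s30) (L := [s30, s31, s32]) (C := c3) ps30 (memL ps30 (memL ps31 (memL ps32 memN))) (by decide +kernel)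
      (by decide +kernel) h4
  have h2 : 20 * (16 * (3 * (1))) ≤ Nat.card (ps (ps G22 1) 2) :=
    card_ge_of_chk (x := 3) (P0 := s20) (L := [s20, s21]) (C := c2) ps20 (memL ps20 (memL ps21 memN)) (by decide +kernel)
      (by decide +kernel) h3
  have h1 : 21 * (20 * (16 * (3 * (1)))) ≤ Nat.card (ps G22 1) :=
    card_ge_of_chk (x := 2) (P0 := s10) (L := [s10, s11]) (C := c1) ps10 (memL ps10 (memL ps11 memN)) (by decide +kernel)
      (by decide +kernel) h2
  have h0 : 22 * (21 * (20 * (16 * (3 * (1))))) ≤ Nat.card G22 :=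
    card_ge_of_chk (x := 1) (P0 := tb 0) (L := [tb 0, tb 1, tb 2, tb 3, tb 4]) (C := c0) (inG 0)
      (memL (inG 0) (memL (inG 1) (memL (inG 2) (memL (inG 3) (memL (inG 4) memN))))) (by decide +kernel)
      (by decide +kernel) h1
  exact h0

/-! ### the isomorphism -/

/-- numbering of the points -/
def ee : GolayPt ≃ Fin 24 where
  toFun p := ⟨M12Core.pos p, M12Core.pos_lt p⟩
  invFun i := M12Core.ofPos i
  left_inv p := M12Core.ofPos_pos p
  right_inv i := Fin.ext (M12Core.pos_ofPos i.2)

/-- renumbering of permutations -/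
def Φ : Perm GolayPt ≃* Perm (Fin 24) := ee.permCongrHom

theorem good_td : ∀ i : Fin 5, M12Core.good (td i) = true ∧ M12Core.dig (td i) 23 = 23 ∧
    M12Core.dig (td i) 0 = 0 ∧ ∀ j : Fin 24, lk (tb i) j = M12Core.dig (td i) j := by decide +kernel

theorem Φ_perm (i : Fin 5) : Φ (M12Core.perm (td i)) = pp i := by
  refine Equiv.ext fun j => Fin.ext ?_
  show M12Core.pos (M12Core.perm (td i) (M12Core.ofPos j)) = lk (tb i) j
  rw [M12Core.pos_perm (DodecadM12.valid_of_good (good_td i).1), M12Core.pos_ofPos j.2, (good_td i).2.2.2 j]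

theorem perm_mem (i : Fin 5) : M12Core.perm (td i) ∈ Spor.M22 := by
  have hv := DodecadM12.valid_of_good (good_td i).1
  refine ⟨⟨M12Core.perm_mem_M24 (good_td i).1, ?_⟩, ?_⟩
  · show M12Core.perm (td i) none = none
    apply M12Core.pos_injective
    rw [M12Core.pos_perm hv]
    exact (good_td i).2.1
  · show M12Core.perm (td i) (some 0) = some 0
    apply M12Core.pos_injective
    rw [M12Core.pos_perm hv]
    exact (good_td i).2.2.1

theorem G22_le : G22 ≤ Spor.M22.map Φ.toMonoidHom := by
  rw [G22, Subgroup.closure_le]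
  rintro _ ⟨i, rfl⟩
  exact ⟨_, perm_mem i, Φ_perm i⟩

theorem card_map : Nat.card (Spor.M22.map Φ.toMonoidHom) = 443520 := by
  rw [← Nat.card_congr (Spor.M22.equivMapOfInjective Φ.toMonoidHom Φ.injective).toEquiv]
  exact Cfsg.Agent.SporadicA.MathieuRecog.card_M22

theorem G22_eq : G22 = Spor.M22.map Φ.toMonoidHom := by
  have : Finite (Spor.M22.map Φ.toMonoidHom) := inferInstance
  exact Subgroup.eq_of_le_of_card_ge G22_le (by rw [card_map]; exact card_ge)

theorem card_G22 : Nat.card G22 = 443520 := by rw [G22_eq, card_map]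

/-- `Spor.M22` is `G22`. -/
noncomputable def equiv : Spor.M22 ≃* G22 :=
  (Spor.M22.equivMapOfInjective Φ.toMonoidHom Φ.injective).trans (MulEquiv.subgroupCongr G22_eq.symm)

end Cfsg.Agent.KFacts.MulP.MTtModel
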