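import Cfsg.Agent.KFacts.MulP.MTwCData

set_option autoImplicit false
set_option maxRecDepth 100000

namespace Cfsg.Agent.KFacts.MulP.MTwCChk0

open Cfsg.Agent.SporadicRecognition.CosetCert Cfsg.Agent.KFacts.MulP.MTwCData

theorem c0 : Part C 0 41 24 := runChunk_sound C 24 (by decide +kernel : runChunk C 10 1023 0x40200af3b8c020081394ec3b4c020080134c02a0c029cc02008430080100000009e3000000043390c029cc0200801acc02008020080100a9388c0294c02008014cc0280c020000000463000008cc0064c0285214008018500214c0295254004439525400802009e300a930040200800000000000000001000000000000000004330011338c02000000080100801008634cc43008020040300000000f300000000000000100000000000000000463000000000000000000000000000402000010000000000000000040000000000000000240d43008010080234d2300000004630000030c0064c026d1b4008016d1b4009a300a130044334c02008014912400983008a300403000000000000000000000040000000000000080000000008010000065194008020044359164311f300801008c40083340c02004630080200802000000000100000000000000000463000000080214c0224c0200801008730080200802004432cc02008020080200802008010080220c020080200433008010080208c02008130040300802008020080200802008250081500805 18 262143 0xa9800000000000000098c0000000000000a701c0166006d80000c28dd57470075801c3e11df846700003d4070000000000000001567195c0176000000000000018747a705c0000000000000000000000000000000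 0 41 = 25)

theorem all : Part C 0 41 24 := c0

end Cfsg.Agent.KFacts.MulP.MTwCChk0
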