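import Cfsg.Agent.SporadicRecognition.CosetCert

set_option autoImplicit false
set_option maxRecDepth 100000

namespace Cfsg.Agent.KFacts.MulP.MTwCData

open Cfsg.Agent.SporadicRecognition.CosetCert

noncomputable def tree : Tr := (.N 16 (.L 0xfffcf0f3911f857d522d08a40f903d419e453710ed0fffffffffffffffffffff7830bffffffcd04fffffffffffffffffd610b7853ffffffffff3330c04fffffff2fffe246886eb63ab88b8432365c69644ffff865289f2928983696a1442b1d91c4fffda8a6b28903282e9e1a581d149b7d6084ffffffffffc842ffffffffffffff4811fffffffc7c22327ffffffdbde6d757fff1d1c7873638b441c186426370a8b2fffd7db5d6969958605c21b1d051545cffff52593954a51213444901116104c20fffce90383cb073538c4d2f3044215147fff0c08241272c94a0f0c4030e0c3436fffc1c10b0c889202068718185051211ffff0a0c202060414104040c10204041f) (.N 32 (.L 0xffff420d183820df8290aa88779bdd9cffffa32e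8549f7e79fe2a36a79a2a75418071c9cfffffffffffffffffffff6e201fcbfffffffffffffffffffff6c21c1e1904bfff717999c6773ffffffd94b621c3fff6169786b346da47552f25d39f36668731706606fffffffffff682fffffffde646ffffffffffd646ffffffffffffff4981bffffffd5c65b67fffffffffffffd654cfffffffffffffffffffff531959117b13fff5117ffffffffffffffffffffd9e904d17ffffffffffffffffffffd4137fffe81f77353134916ee5766e71f73291f10fffffff47152d4fffffff4f57fff5fffe3128d4a5129349191431648b911cbfff8f46391b592c9b3f15152555d0863) (.L 0x3ffff193d28faa7e69f5a7da9f8a7de97ffffce9e993b65f09f927e17f9e1e694bfffd89f667efa35e5db7f8e8d59b49b0dc83fffffff3e6ce9bfffffff31bd49c7fffc28efe1d69fba8bd6ee94e5a30622ffffaa8f2a6ddbb447b24eb92e24b9913fffc6870e5af8ab0cc48f163b08ec634c887ffffffea8cae8ffffffff025fffd7fffbe971e3cb332a3a98298ac997a282)))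

noncomputable def wtree : WT := (.N 24 (.N 12 (.N 6 (.N 3 (.N 1 (.L 6 [7,7]) (.N 2 (.L 0 [6,0,5,1,5,0,4,1,7]) (.L 3 [6,2,0,5,1,4,1,3,7]))) (.N 4 (.L 0 [1,1]) (.N 5 (.L 2 [3,3]) (.L 7 [2,7,3,0,5,1,2,6,3])))) (.N 9 (.N 7 (.L 4 [5,5]) (.N 8 (.L 0 [2,6,3,6,2,7,3,0,5]) (.L 5 [1,3,7,2,6,2,0,5,1]))) (.N 10 (.L 5 [4,4]) (.N 11 (.L 0 [6,5,0,4,1,5,1,4,7]) (.L 1 [3,6,2,1,3,0,7,1,2]))))) (.N 18 (.N 15 (.N 13 (.L 1 [5,1,5,0,4,1,7,1,6]) (.N 14 (.L 1 [0,0]) (.L 5 [0,4,1,7,0,6,0,5,1]))) (.N 16 (.L 2 [7,2,6,2,0,5,1,4,1]) (.N 17 (.L 7 [4,1,7,1,4,0,6,0,5]) (.L 6 [1,4,0,6,0,5,6,4,1])))) (.N 21 (.N 19 (.L 0 [4,0,4,1,7,0,6,0,5]) (.N 20 (.L 3 [6,3,7,2,7,3,0,4,1]) (.L 6 [2,6,2,0,5,1,4,1,3]))) (.N 22 (.L 8 [5,0,4,0,5,1,4,7,0,6]) (.N 23 (.L 8 [5,1,4,7,0,6,5,0,4,0]) (.L 8 [4,1,7,1,4,0,6,0,5,6])))))) (.N 36 (.N 30 (.N 27 (.N 25 (.L 2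 [0,5,1,2,6,3,6,2,7]) (.N 26 (.L 7 [2,0,5,0,4,1,3,7,3]) (.L 6 [3,0,5,1,2,6,3,6,2]))) (.N 28 (.L 8 [2,6,3,6,2,7,3,0,5,1]) (.N 29 (.L 8 [1,2,0,3,7,2,1,3,0,6]) (.L 8 [1,2,6,3,7,2,7,3,0,4])))) (.N 33 (.N 31 (.L 4 [1,4,0,4,1,7,0,6,0]) (.N 32 (.L 6 [4,1,7,1,5,0,6,0,5]) (.L 1 [4,1,3,7,3,6,2,0,5]))) (.N 34 (.L 4 [0,4,0,5,1,4,7,0,6]) (.N 35 (.L 1 [4,1,7,1,6,0,5,1,5]) (.L 1 [5,1,2,6,3,6,2,7,3]))))) (.N 42 (.N 39 (.N 37 (.L 7 [0,5,7,4,1,7,1,5,0]) (.N 38 (.L 7 [6,6]) (.L 8 [1,2,0,3,6,2,1,3,0,7]))) (.N 40 (.L 5 [0,6,0,5,6,4,1,7,1]) (.N 41 (.L 7 [0,5,1,5,0,4,1,7,1]) (.L 2 [7,3,6,2,0,5,0,4,1])))) (.N 45 (.N 43 (.L 8 [3,0,6,1,2,0,3,7,2,1]) (.N 44 (.L 1 [6,1,2,0,3,7,2,1,3]) (.L 6 [0,6,5,0,4,0,5,1,4]))) (.N 46 (.L 5 [1,2,6,3,7,2,7,3,0]) (.N 47 (.L 3 [7,3,0,5,1,2,6,3,6]) (.L 4 [0,6,0,5,7,4,1,7,1])))))))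

noncomputable def stree : ST := (.N 1 (.L 0 [] []) (.N 2 (.L 2 [] []) (.L 4 [] [])))

noncomputable def C : Cert where
  data := tree
  lm := 15
  rb := 130
  fb := 14
  mask := 16383
  B := 64
  k := 8
  N := 41
  inv := fun x => bif Nat.beq x 0 then 1 else bif Nat.beq x 1 then 0 else bif Nat.beq x 2 then 3 else bif Nat.beq x 3 then 2 else bif Nat.beq x 4 then 5 else bif Nat.beq x 5 then 4 else bif Nat.beq x 6 then 7 else bif Nat.beq x 7 then 6 else x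
  words := wtree
  subs := stree

def rels : List (List Nat) := [[0,0,0], [2,2,2], [4,4,4], [6,6,6], [0,3,6,2,1,3,0,7,1,2], [0,4,0,5,1,4,7,0,6,5], [0,4,1,2,6,3,7,2,7,3], [0,4,1,3,7,3,6,2,0,5], [0,4,1,7,0,6,0,5,1,4], [0,5,6,4,1,7,1,4,0,6]]

def subw : List (List Nat) := [[0], [2], [4]]

end Cfsg.Agent.KFacts.MulP.MTwCData
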