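import Cfsg.Agent.KFacts.MulP.Words
import Cfsg.Agent.KFacts.MulP.MTwAAll
import Cfsg.Agent.KFacts.MulP.MTwBAll
import Cfsg.Agent.KFacts.MulP.MTwCAll
import Cfsg.Agent.CoThreeStd.M12.Model
import Cfsg.Agent.MTwelveType.SylowModel

/-!
# The 2-part of the multiplier of `M₁₂` has order at most 2

Four elements of class 3A: `⟨b₀⟩ < ⟨b₀, b₁⟩ = 3² < ⟨b₀, b₁, b₂⟩ = M₁₁`, and four of them generate. All relators are of the form
`u⁻¹ x u = v⁻¹ y v` with letters `x, y`, so they hold for the lifts of order 3 in every perfect central extension by a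
2-group; coset enumerations with 3, 880 and 24 cosets give the order `3 * 3 * 880 * 24 = 2 |M₁₂|`.
-/

set_option autoImplicit false

namespace Cfsg.Agent.KFacts.MulP.MTwelve

open Subgroup Cfsg.Agent.SporadicRecognition.CosetCert Cfsg.Agent.SporadicRecognition.CosetCertHyp
open Cfsg.Agent.KFacts.OddLift.Basic Cfsg.Agent.KFacts.MulP.Words
open Cfsg.Agent.CoThreeStd.M12 (G12 el wt el_nil el_append el_reverse el_eq lp el_single)

universe u v

/-- the four letters as words in the six involutions -/
def W (i : ℕ) : List (Fin 6) :=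
  [[2, 3, 1, 0, 5, 4], [1, 0, 5, 4, 2, 3], [3, 2, 1, 5, 4, 0], [5, 4, 1, 2, 5, 3, 1, 2, 1]].getD i []

/-- the six involutions as words in the four letters -/
def V (k : Fin 6) : List ℕ :=
  ![[4, 2, 1, 5, 3, 1, 6, 0], [4, 1, 6, 2, 6, 0, 4, 1], [4, 3, 5, 2, 0, 6, 3, 1], [3, 5, 6, 4, 7, 0],
    [2, 7, 4, 3, 1, 4, 3], [5, 6, 1, 6, 2, 6, 2]] k

theorem val : Val el where
  nil := rfl
  append := el_append
  rev := el_reverse

/-- trivial words -/
def chk1 (w : List (Fin 6)) : Bool := Nat.beq (wt w) (wt [])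

theorem el_eq_one {w : List (Fin 6)} (h : chk1 w = true) : el w = 1 := by
  rw [← el_nil]
  exact el_eq (Nat.eq_of_beq_eq_true h)

/-- the letters -/
noncomputable def b (i : ℕ) : G12 := el (W i)

theorem cubes : ((List.range 4).all fun i => chk1 (W i ++ W i ++ W i)) = true := by decide +kernel

theorem odd_b (i : ℕ) : Odd (orderOf (b i)) := by
  by_cases h : i < 4
  · apply odd_of_cube
    have h1 := el_eq_one (List.all_eq_true.1 cubes i (List.mem_range.2 h))
    rw [el_append, el_append] at h1
    exact h1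
  · have h1 : W i = [] := List.getD_eq_default _ _ (not_lt.1 h)
    have h2 : b i = 1 := by
      unfold b
      rw [h1]
      exact val.nil
    rw [h2, orderOf_one]
    exact odd_one

theorem ltA : (MTwAData.rels.all fun r => r.all fun y => Nat.blt y (2 * 4)) = true := by decide +kernel
theorem ltB : (MTwBData.rels.all fun r => r.all fun y => Nat.blt y (2 * 4)) = true := by decide +kernel
theorem ltC : (MTwCData.rels.all fun r => r.all fun y => Nat.blt y (2 * 4)) = true := by decide +kernel

theorem chkA : (MTwAData.rels.all fun r => chk1 (ex W r)) = true := by decide +kernel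
theorem chkB : (MTwBData.rels.all fun r => chk1 (ex W r)) = true := by decide +kernel
theorem chkC : (MTwCData.rels.all fun r => chk1 (ex W r)) = true := by decide +kernel

theorem okA : (MTwAData.rels.all fun r => okr [] r) = true := by decide +kernel
theorem okB : (MTwBData.rels.all fun r => okr [] r) = true := by decide +kernel
theorem okC : (MTwCData.rels.all fun r => okr [] r) = true := by decide +kernel

theorem stA : stepOK MTwAData.C MTwAData.rels MTwAData.subw 2 1 = true := by decide +kernel
theorem stB : stepOK MTwBData.C MTwBData.rels MTwBData.subw 3 2 = true := by decide +kernel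
theorem stC : stepOK MTwCData.C MTwCData.rels MTwCData.subw 4 3 = true := by decide +kernel

theorem mem_V (k : Fin 6) : el [k] ∈ clo b 4 := by
  have h1 : ∀ k, wt [k] = wt (ex W (V k)) := by decide +kernel
  have h2 : ∀ k, ((V k).all fun y => Nat.blt y (2 * 4)) = true := by decide +kernel
  rw [el_eq (h1 k)]
  exact val.mem W (h2 k)

theorem gen_eq : clo b 4 = ⊤ := by
  have hle : Set.range lp ⊆ ((clo b 4).map G12.subtype : Subgroup (Equiv.Perm (Fin 12))) := by
    rintro _ ⟨k, rfl⟩
    refine ⟨el [k], mem_V k, ?_⟩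
    rw [el_single]
    rfl
  rw [eq_top_iff]
  rintro ⟨g, hg⟩ -
  obtain ⟨g', h1, h2⟩ := (Subgroup.closure_le _).2 hle hg
  have e : g' = ⟨g, hg⟩ := Subtype.ext h2
  rwa [← e]

theorem card_G12 : Nat.card G12 = 95040 := by
  rw [← Nat.card_congr Cfsg.Agent.CoThreeStd.M12.equiv.toEquiv]
  exact Cfsg.Agent.MTwelveType.SylowModel.card_M12

theorem card_ker_le_G {L : Type*} [Group L] {π : L →* G12} (h : Cov π) : Finite L ∧ Nat.card π.ker ≤ 2 := by
  obtain ⟨B, hB, hBo⟩ := h.exists_lifts (b := b) odd_b
  have hrA := h.rels_eq_one hB hBo (n := 4) (odd := []) (by simp) okA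
    (val.rels W (fun w hw => el_eq_one hw) ltA chkA)
  have hrB := h.rels_eq_one hB hBo (n := 4) (odd := []) (by simp) okB
    (val.rels W (fun w hw => el_eq_one hw) ltB chkB)
  have hrC := h.rels_eq_one hB hBo (n := 4) (odd := []) (by simp) okC
    (val.rels W (fun w hw => el_eq_one hw) ltC chkC)
  have h0 : B 0 ^ 3 = 1 := by
    refine h.eq_of_odd ?_ (by rw [orderOf_one]; exact odd_one) ?_
    · exact odd_pow (hBo 0) 3
    · rw [map_pow, hB, map_one]
      have h1 := el_eq_one (List.all_eq_true.1 cubes 0 (List.mem_range.2 (by norm_num)))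
      rw [el_append, el_append] at h1
      rw [pow_succ, pow_two]
      exact h1
  have s1 := base (B := B) (k := 3) (by norm_num) h0
  have s2 := step (B := B) MTwAData.C MTwAData.rels MTwAData.subw (k := 4) (by norm_num) stA hrA MTwAAll.part s1
  have s3 := step (B := B) MTwBData.C MTwBData.rels MTwBData.subw (k := 4) (by norm_num) stB hrB MTwBAll.part s2
  have s4 := step (B := B) MTwCData.C MTwCData.rels MTwCData.subw (k := 4) (by norm_num) stC hrC MTwCAll.part s3
  refine h.card_ker_le hB gen_eq (by rw [card_G12]; norm_num) ⟨s4.1, ?_⟩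
  rw [card_G12]
  exact s4.2

/-- **The 2-part of the multiplier of `M₁₂`.** -/
theorem card_ker_le {L : Type u} {X : Type v} [Group L] [Group X] (hX : Cfsg.Spor.IsoM12 X) {π : L →* X}
    (h : Cov π) : Finite L ∧ Nat.card π.ker ≤ 2 := by
  obtain ⟨e⟩ := hX
  have h1 := card_ker_le_G (cov_equiv h (e.trans Cfsg.Agent.CoThreeStd.M12.equiv))
  rwa [ker_equiv] at h1

/-- for central quotients -/
theorem card_le {K : Type u} [Group K] (hK : commutator K = ⊤) (Z : Subgroup K) [Z.Normal]
    (hZ : Z ≤ center K) (h2 : IsPGroup 2 Z) (hX : Cfsg.Spor.IsoM12 (K ⧸ Z)) : Nat.card Z ≤ 2 := by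
  have hk := QuotientGroup.ker_mk' Z
  have hc : Cov (QuotientGroup.mk' Z) :=
    ⟨QuotientGroup.mk'_surjective _, by rw [hk]; exact hZ, by rw [hk]; exact h2, hK⟩
  have h1 := (card_ker_le hX hc).2
  rwa [hk] at h1

/-- without the assumption that the kernel is a 2-group -/
theorem not_four_dvd {X : Type v} [Group X] (hX : Cfsg.Spor.IsoM12 X) {K : Type u} [Group K] [Finite K]
    (hK : commutator K = ⊤) {f : K →* X} (hf : Function.Surjective f) (hZ : f.ker ≤ center K) :
    ¬ 4 ∣ Nat.card f.ker :=
  not_dvd_of_cov (e := 3) (fun L _ _ _ h => Nat.lt_succ_of_le (card_ker_le hX h).2) hK hf hZ (j := 2) (by norm_num)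

end Cfsg.Agent.KFacts.MulP.MTwelve
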