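import Cfsg.Agent.KFacts.MulP.Words
import Cfsg.Agent.KFacts.MulP.MTtModel
import Cfsg.Agent.KFacts.MulP.MTtAAll
import Cfsg.Agent.KFacts.MulP.MTtBAll
import Cfsg.Agent.KFacts.MulP.MTtCAll

/-!
# The 2-part of the multiplier of `M₂₂` has order at most 4

Five elements of order 3: `⟨b₀⟩ < ⟨b₀, b₁⟩ = A₅ < ⟨b₀, b₁, b₂, b₃⟩ = A₇`, and five of them generate. All relators are of the form
`u⁻¹ x u = v⁻¹ y v` with letters `x, y`, so they hold for the lifts of order 3 in every perfect central extension by a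
2-group; coset enumerations with 40, 42 and 352 cosets give the order `3 * 40 * 42 * 352 = 4 |M₂₂|`.
-/

set_option autoImplicit false

namespace Cfsg.Agent.KFacts.MulP.MTwentyTwo

open Subgroup Cfsg.Agent.SporadicRecognition.CosetCert Cfsg.Agent.SporadicRecognition.CosetCertHyp
open Cfsg.Agent.KFacts.OddLift.Basic Cfsg.Agent.KFacts.MulP.Words Cfsg.Agent.KFacts.MulP.MTtModel
open Cfsg.Agent.SporadicA.PermTab (lk mkPerm)

universe u v

/-- the letters -/
def b (i : ℕ) : G22 := if h : i < 5 then ⟨pp ⟨i, h⟩, pp_mem _⟩ else 1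

/-- the table of a symbol -/
def sb (y : ℕ) : ℕ := bif Nat.beq (y % 2) 0 then tb (y / 2) else ti (y / 2)

/-- the image of a point under a word -/
def run (w : List ℕ) (j : ℕ) : ℕ := w.foldr (fun y j => lk (sb y) j) j

theorem lt_val {y : ℕ} (hy : y < 2 * 5) (j : Fin 24) : (((lt b 5 y : G22) : Equiv.Perm (Fin 24)) j : ℕ) = lk (sb y) j := by
  have hb : b (y / 2) = ⟨pp ⟨y / 2, by omega⟩, pp_mem _⟩ := dif_pos (by omega)
  unfold sb
  rcases Nat.mod_two_eq_zero_or_one y with h2 | h2
  · rw [lt_even _ 5 hy h2, h2, hb]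
    rfl
  · rw [lt_odd _ 5 hy h2, h2, hb]
    rfl

theorem ev_val {w : List ℕ} (hw : ∀ y ∈ w, y < 2 * 5) (j : Fin 24) :
    (((ev (lt b 5) w : G22) : Equiv.Perm (Fin 24)) j : ℕ) = run w j := by
  induction w with
  | nil => rfl
  | cons y w ih =>
    have h1 := ih fun z hz => hw z (List.mem_cons_of_mem _ hz)
    rw [ev_cons, Subgroup.coe_mul, Equiv.Perm.mul_apply, lt_val (hw y List.mem_cons_self), h1]
    rfl

/-- the word is trivial -/
def chk1 (w : List ℕ) : Bool := (w.all fun y => Nat.blt y (2 * 5)) && ((List.range 24).all fun j => Nat.beq (run w j) j)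

theorem ev_eq_one {w : List ℕ} (h : chk1 w = true) : ev (lt b 5) w = 1 := by
  unfold chk1 at h
  rw [Bool.and_eq_true] at h
  refine Subtype.ext (Equiv.ext fun j => Fin.ext ?_)
  rw [ev_val (all_lt h.1)]
  exact Nat.eq_of_beq_eq_true (List.all_eq_true.1 h.2 j (List.mem_range.2 j.2))

theorem cubes : ((List.range 5).all fun i => chk1 [2 * i, 2 * i, 2 * i]) = true := by decide +kernel

theorem cube_b {i : ℕ} (h : i < 5) : b i * b i * b i = 1 := by
  have h1 := ev_eq_one (List.all_eq_true.1 cubes i (List.mem_range.2 h))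
  rw [ev_cons, ev_cons, ev_cons, ev_nil, mul_one, lt_even _ 5 (by omega) (by omega)] at h1
  have h2 : 2 * i / 2 = i := by omega
  rw [h2, ← mul_assoc] at h1
  exact h1

theorem odd_b (i : ℕ) : Odd (orderOf (b i)) := by
  by_cases h : i < 5
  · exact odd_of_cube (cube_b h)
  · have h2 : b i = 1 := dif_neg h
    rw [h2, orderOf_one]
    exact odd_one

theorem chkA : (MTtAData.rels.all fun r => chk1 r) = true := by decide +kernel
theorem chkB : (MTtBData.rels.all fun r => chk1 r) = true := by decide +kernel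
theorem chkC : (MTtCData.rels.all fun r => chk1 r) = true := by decide +kernel

theorem okA : (MTtAData.rels.all fun r => okr [] r) = true := by decide +kernel
theorem okB : (MTtBData.rels.all fun r => okr [] r) = true := by decide +kernel
theorem okC : (MTtCData.rels.all fun r => okr [] r) = true := by decide +kernel

theorem stA : stepOK MTtAData.C MTtAData.rels MTtAData.subw 2 1 = true := by decide +kernel
theorem stB : stepOK MTtBData.C MTtBData.rels MTtBData.subw 4 2 = true := by decide +kernel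
theorem stC : stepOK MTtCData.C MTtCData.rels MTtCData.subw 5 4 = true := by decide +kernel

theorem gen_eq : clo b 5 = ⊤ := by
  have hle : Set.range pp ⊆ ((clo b 5).map G22.subtype : Subgroup (Equiv.Perm (Fin 24))) := by
    rintro _ ⟨k, rfl⟩
    refine ⟨b k, mem_clo b k.2, ?_⟩
    have : b k = ⟨pp k, pp_mem _⟩ := dif_pos k.2
    rw [this]
    rfl
  rw [eq_top_iff]
  rintro ⟨g, hg⟩ -
  obtain ⟨g', h1, h2⟩ := (Subgroup.closure_le _).2 hle hg
  have e : g' = ⟨g, hg⟩ := Subtype.ext h2
  rwa [← e]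

theorem card_ker_le_G {L : Type*} [Group L] {π : L →* G22} (h : Cov π) : Finite L ∧ Nat.card π.ker ≤ 4 := by
  obtain ⟨B, hB, hBo⟩ := h.exists_lifts (b := b) odd_b
  have hrA := h.rels_eq_one hB hBo (n := 5) (odd := []) (by simp) okA
    fun r hr => ev_eq_one (List.all_eq_true.1 chkA r hr)
  have hrB := h.rels_eq_one hB hBo (n := 5) (odd := []) (by simp) okB
    fun r hr => ev_eq_one (List.all_eq_true.1 chkB r hr)
  have hrC := h.rels_eq_one hB hBo (n := 5) (odd := []) (by simp) okC
    fun r hr => ev_eq_one (List.all_eq_true.1 chkC r hr)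
  have h0 : B 0 ^ 3 = 1 := by
    refine h.eq_of_odd ?_ (by rw [orderOf_one]; exact odd_one) ?_
    · exact odd_pow (hBo 0) 3
    · rw [map_pow, hB, map_one, pow_succ, pow_two]
      exact cube_b (by norm_num)
  have s1 := base (B := B) (k := 3) (by norm_num) h0
  have s2 := step (B := B) MTtAData.C MTtAData.rels MTtAData.subw (k := 5) (by norm_num) stA hrA MTtAAll.part s1
  have s3 := step (B := B) MTtBData.C MTtBData.rels MTtBData.subw (k := 5) (by norm_num) stB hrB MTtBAll.part s2
  have s4 := step (B := B) MTtCData.C MTtCData.rels MTtCData.subw (k := 5) (by norm_num) stC hrC MTtCAll.part s3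
  refine h.card_ker_le hB gen_eq (by rw [card_G22]; norm_num) ⟨s4.1, ?_⟩
  rw [card_G22]
  exact s4.2

/-- **The 2-part of the multiplier of `M₂₂`.** -/
theorem card_ker_le {L : Type u} {X : Type v} [Group L] [Group X] (hX : Cfsg.Spor.IsoM22 X) {π : L →* X}
    (h : Cov π) : Finite L ∧ Nat.card π.ker ≤ 4 := by
  obtain ⟨e⟩ := hX
  have h1 := card_ker_le_G (cov_equiv h (e.trans MTtModel.equiv))
  rwa [ker_equiv] at h1

/-- for central quotients -/
theorem card_le {K : Type u} [Group K] (hK : commutator K = ⊤) (Z : Subgroup K) [Z.Normal]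
    (hZ : Z ≤ center K) (h2 : IsPGroup 2 Z) (hX : Cfsg.Spor.IsoM22 (K ⧸ Z)) : Nat.card Z ≤ 4 := by
  have hk := QuotientGroup.ker_mk' Z
  have hc : Cov (QuotientGroup.mk' Z) :=
    ⟨QuotientGroup.mk'_surjective _, by rw [hk]; exact hZ, by rw [hk]; exact h2, hK⟩
  have h1 := (card_ker_le hX hc).2
  rwa [hk] at h1

/-- without the assumption that the kernel is a 2-group -/
theorem not_eight_dvd {X : Type v} [Group X] (hX : Cfsg.Spor.IsoM22 X) {K : Type u} [Group K] [Finite K]
    (hK : commutator K = ⊤) {f : K →* X} (hf : Function.Surjective f) (hZ : f.ker ≤ center K) :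
    ¬ 8 ∣ Nat.card f.ker :=
  not_dvd_of_cov (e := 5) (fun L _ _ _ h => Nat.lt_succ_of_le (card_ker_le hX h).2) hK hf hZ (j := 3) (by norm_num)

end Cfsg.Agent.KFacts.MulP.MTwentyTwo
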