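import Cfsg.Agent.KFacts.MulP.MTwentyTwo
import Cfsg.Agent.KFacts.MulP.MTtDAll
import Cfsg.Agent.KFacts.MulP.MTtEAll

/-!
# Central extensions of `M₂₂` with kernel of exponent 2

`card_ker_le_two_of_sq`: a perfect central extension of `M₂₂` whose kernel has exponent 2 has a kernel of order at most 2 (so the
kernel is never a four-group). Six letters of order 3, the first two generate `2³:7:3`, whose lift is exact; with the relation
`u ^ 10 = 1` for a word `u` of order 5 (because `u ^ 5` is in the kernel) the enumeration gives `3 * 56 * 5280 = 2 |M₂₂|`.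
-/

set_option autoImplicit false

namespace Cfsg.Agent.KFacts.MulP.MTwentyTwoSq

open Subgroup Cfsg.Agent.SporadicRecognition.CosetCert Cfsg.Agent.SporadicRecognition.CosetCertHyp
open Cfsg.Agent.KFacts.OddLift.Basic Cfsg.Agent.KFacts.MulP.Words Cfsg.Agent.KFacts.MulP.MTtModel
open Cfsg.Agent.KFacts.MulP.MTwentyTwo (b chk1 ev_eq_one odd_b cube_b gen_eq)

universe u v

/-- the new letters as words in the five letters -/
def U (i : ℕ) : List ℕ := [[0], [4, 8, 5], [2], [4], [6], [8]].getD i []

/-- the new letters -/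
def d (i : ℕ) : G22 := ev (lt b 5) (U i)

/-- the word of a symbol -/
def sy2 (y : ℕ) : List ℕ := bif Nat.beq (y % 2) 0 then U (y / 2) else invw iv (U (y / 2))

/-- the substituted word -/
def ex2 (r : List ℕ) : List ℕ := r.foldr (fun y w => sy2 y ++ w) []

theorem ev_ex2 {r : List ℕ} (hr : ∀ y ∈ r, y < 2 * 6) : ev (lt d 6) r = ev (lt b 5) (ex2 r) := by
  induction r with
  | nil => rw [ev_nil]; exact (ev_nil _).symm
  | cons y r ih =>
    have h1 : ex2 (y :: r) = sy2 y ++ ex2 r := rfl
    have hy := hr y List.mem_cons_self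
    rw [ev_cons, ih fun z hz => hr z (List.mem_cons_of_mem _ hz), h1, ev_append]
    congr 1
    unfold sy2
    rcases Nat.mod_two_eq_zero_or_one y with h2 | h2
    · rw [lt_even _ 6 hy h2, h2]
      rfl
    · rw [lt_odd _ 6 hy h2, h2]
      exact (ev_invw_iv b 5 _).symm

/-- the word is trivial -/
def chk2 (r : List ℕ) : Bool := (r.all fun y => Nat.blt y (2 * 6)) && chk1 (ex2 r)

theorem ev_eq_one2 {r : List ℕ} (h : chk2 r = true) : ev (lt d 6) r = 1 := by
  unfold chk2 at h
  rw [Bool.and_eq_true] at h
  rw [ev_ex2 (all_lt h.1)]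
  exact ev_eq_one h.2

theorem cubes : ((List.range 6).all fun i => chk2 [2 * i, 2 * i, 2 * i]) = true := by decide +kernel

theorem cube_d {i : ℕ} (h : i < 6) : d i * d i * d i = 1 := by
  have h1 := ev_eq_one2 (List.all_eq_true.1 cubes i (List.mem_range.2 h))
  rw [ev_cons, ev_cons, ev_cons, ev_nil, mul_one, lt_even _ 6 (by omega) (by omega)] at h1
  have h2 : 2 * i / 2 = i := by omega
  rw [h2, ← mul_assoc] at h1
  exact h1

theorem odd_d (i : ℕ) : Odd (orderOf (d i)) := by
  by_cases h : i < 6
  · exact odd_of_cube (cube_d h)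
  · have h1 : U i = [] := List.getD_eq_default _ _ (not_lt.1 h)
    have h2 : d i = 1 := by
      unfold d
      rw [h1, ev_nil]
    rw [h2, orderOf_one]
    exact odd_one

/-- the word of order 5 -/
def q5 : List ℕ := [0, 11, 0, 11, 0, 11, 0, 11, 0, 11]

theorem chkD : (MTtDData.rels.all fun r => chk2 r) = true := by decide +kernel
theorem chkE : (MTtEData.rels.all fun r => chk2 r) = true := by decide +kernel
theorem chkQ : chk2 q5 = true := by decide +kernel

theorem okD : (MTtDData.rels.all fun r => okr [] r) = true := by decide +kernel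
theorem okE : ((MTtEData.rels.filter fun r => !(r == q5 ++ q5)).all fun r => okr [] r) = true := by decide +kernel

theorem stD : stepOK MTtDData.C MTtDData.rels MTtDData.subw 2 1 = true := by decide +kernel
theorem stE : stepOK MTtEData.C MTtEData.rels MTtEData.subw 6 2 = true := by decide +kernel

theorem b_mem : ∀ i < 5, b i ∈ clo d 6 := by
  have key : ∀ i j : ℕ, i < 5 → j < 6 → U j = [2 * i] → b i ∈ clo d 6 := by
    intro i j hi hj h
    have h1 : d j = b i := by
      unfold d
      rw [h, ev_cons, ev_nil, mul_one, lt_even _ 5 (by omega) (by omega)]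
      congr 1
      omega
    rw [← h1]
    exact mem_clo d hj
  intro i hi
  interval_cases i
  · exact key 0 0 (by norm_num) (by norm_num) rfl
  · exact key 1 2 (by norm_num) (by norm_num) rfl
  · exact key 2 3 (by norm_num) (by norm_num) rfl
  · exact key 3 4 (by norm_num) (by norm_num) rfl
  · exact key 4 5 (by norm_num) (by norm_num) rfl

theorem gen_eq2 : clo d 6 = ⊤ := by
  rw [eq_top_iff, ← gen_eq]
  unfold clo
  rw [closure_le]
  rintro _ ⟨i, hi, rfl⟩
  exact b_mem i hi

theorem card_ker_le_G {L : Type*} [Group L] {π : L →* G22} (h : Cov π) (hsq : ∀ z ∈ π.ker, z * z = 1) :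
    Finite L ∧ Nat.card π.ker ≤ 2 := by
  obtain ⟨B, hB, hBo⟩ := h.exists_lifts (b := d) odd_d
  have hrD := h.rels_eq_one hB hBo (n := 6) (odd := []) (by simp) okD
    fun r hr => ev_eq_one2 (List.all_eq_true.1 chkD r hr)
  have hrE := h.rels_eq_one hB hBo (n := 6) (odd := []) (by simp) okE
    fun r hr => ev_eq_one2 (List.all_eq_true.1 chkE r (List.mem_filter.1 hr).1)
  have hrE' : ∀ r ∈ MTtEData.rels, ev (lt B 6) r = 1 := by
    intro r hr
    by_cases hq : r = q5 ++ q5
    · have h1 : ev (lt B 6) q5 ∈ π.ker := by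
        rw [MonoidHom.mem_ker, Cov.map_word hB]
        exact ev_eq_one2 chkQ
      rw [hq, ev_append]
      exact hsq _ h1
    · refine hrE r (List.mem_filter.2 ⟨hr, ?_⟩)
      have : (r == q5 ++ q5) = false := by simpa using hq
      rw [this]
      rfl
  have h0 : B 0 ^ 3 = 1 := by
    refine h.eq_of_odd ?_ (by rw [orderOf_one]; exact odd_one) ?_
    · exact odd_pow (hBo 0) 3
    · rw [map_pow, hB, map_one, pow_succ, pow_two]
      exact cube_d (by norm_num)
  have s1 := base (B := B) (k := 3) (by norm_num) h0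
  have s2 := step (B := B) MTtDData.C MTtDData.rels MTtDData.subw (k := 6) (by norm_num) stD hrD MTtDAll.part s1
  have s3 := step (B := B) MTtEData.C MTtEData.rels MTtEData.subw (k := 6) (by norm_num) stE hrE' MTtEAll.part s2
  refine h.card_ker_le hB gen_eq2 (by rw [card_G22]; norm_num) ⟨s3.1, ?_⟩
  rw [card_G22]
  exact s3.2

/-- **No four-group**: the kernel of a perfect central extension of `M₂₂` of exponent 2 has order at most 2. -/
theorem card_ker_le_two_of_sq {L : Type u} {X : Type v} [Group L] [Group X] (hX : Cfsg.Spor.IsoM22 X) {π : L →* X}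
    (h : Cov π) (hsq : ∀ z ∈ π.ker, z * z = 1) : Nat.card π.ker ≤ 2 := by
  obtain ⟨e⟩ := hX
  have h1 := card_ker_le_G (cov_equiv h (e.trans MTtModel.equiv)) (by rw [ker_equiv]; exact hsq)
  rw [ker_equiv] at h1
  exact h1.2

end Cfsg.Agent.KFacts.MulP.MTwentyTwoSq
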