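import Cfsg.Agent.KFacts.MulP.MTwelve
import Cfsg.Agent.KFacts.MulP.JTwo
import Cfsg.Agent.KFacts.MulP.MTwentyTwo
import Cfsg.Agent.OddHalf.D9.MultOf

/-!
# The rows `M₁₂`, `J₂`, `M₂₂` of the multiplier tables of D9
-/

set_option autoImplicit false
set_option linter.style.haveILetI false

namespace Cfsg.Agent.KFacts.MulP.Rows

open Subgroup Cfsg Cfsg.Agent.OddHalf.D9.Cut Cfsg.Agent.OddHalf.D9.MultOf

universe u

theorem dvd_of_le {K : Type u} [Group K] (h : QsCyc K) {n k : ℕ} (hn : n = 2 ^ k)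
    (hle : Nat.card ↥(center K) ≤ n) : Nat.card ↥(center K) ∣ n := by
  haveI := h.1
  haveI : Fact (Nat.Prime 2) := ⟨Nat.prime_two⟩
  obtain ⟨m, hm⟩ := IsPGroup.iff_card.1 h.2.2.1
  rw [hm, hn] at hle
  rw [hm, hn]
  exact pow_dvd_pow 2 ((Nat.pow_le_pow_iff_right (by norm_num)).1 hle)

theorem m12 : Bd.{u} 2 (fun X _ => Spor.IsoM12 X) := fun _ _ hK hP =>
  dvd_of_le hK (k := 1) (by norm_num) (MTwelve.card_le hK.2.1.1.commutator_eq_top _ le_rfl hK.2.2.1 hP)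

theorem j2 : Bd.{u} 2 (fun X _ => Spor.IsoJ2 X) := fun _ _ hK hP =>
  dvd_of_le hK (k := 1) (by norm_num) (JTwo.card_le hK.2.1.1.commutator_eq_top _ le_rfl hK.2.2.1 hP)

theorem m22 : Bd.{u} 4 (fun X _ => Spor.IsoM22 X) := fun _ _ hK hP =>
  dvd_of_le hK (k := 2) (by norm_num) (MTwentyTwo.card_le hK.2.1.1.commutator_eq_top _ le_rfl hK.2.2.1 hP)

end Cfsg.Agent.KFacts.MulP.Rows
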