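import Cfsg.Agent.KFacts.OddLift.Step

/-!
# Letters which are words in other letters

`Val val`: `val` is the evaluation of words in involutions. `ex W r` is the word obtained from `r` by the substitution
`2 i ↦ W i`, `2 i + 1 ↦ (W i).reverse`.
-/

set_option autoImplicit false

namespace Cfsg.Agent.KFacts.MulP.Words

open Subgroup Cfsg.Agent.SporadicRecognition.CosetCert Cfsg.Agent.SporadicRecognition.CosetCertHyp
open Cfsg.Agent.KFacts.OddLift.Basic

universe u v

variable {σ : Type*} {X : Type*} [Group X]

/-- the word of a symbol -/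
def sy (W : ℕ → List σ) (y : ℕ) : List σ := bif Nat.beq (y % 2) 0 then W (y / 2) else (W (y / 2)).reverse

/-- the substituted word -/
def ex (W : ℕ → List σ) (r : List ℕ) : List σ := r.foldr (fun y w => sy W y ++ w) []

/-- evaluation of words in involutions -/
structure Val (val : List σ → X) : Prop where
  nil : val [] = 1
  append : ∀ u v, val (u ++ v) = val u * val v
  rev : ∀ w, val w.reverse = (val w)⁻¹

theorem Val.ev_eq {val : List σ → X} (h : Val val) (W : ℕ → List σ) {n : ℕ} {r : List ℕ}
    (hr : ∀ y ∈ r, y < 2 * n) : ev (lt (fun i => val (W i)) n) r = val (ex W r) := by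
  induction r with
  | nil => rw [ev_nil]; exact h.nil.symm
  | cons y r ih =>
    have h1 : ex W (y :: r) = sy W y ++ ex W r := rfl
    have hy := hr y List.mem_cons_self
    rw [ev_cons, ih fun z hz => hr z (List.mem_cons_of_mem _ hz), h1, h.append]
    congr 1
    unfold sy
    rcases Nat.mod_two_eq_zero_or_one y with h2 | h2
    · rw [lt_even _ n hy h2, h2]
      rfl
    · rw [lt_odd _ n hy h2, h2, ← h.rev]
      rfl

/-- the relators are relators of the letters -/
theorem Val.rels {val : List σ → X} (h : Val val) (W : ℕ → List σ) {n : ℕ} {rels : List (List ℕ)}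
    {chk : List σ → Bool} (hchk : ∀ w, chk w = true → val w = 1)
    (hr : (rels.all fun r => r.all fun y => Nat.blt y (2 * n)) = true)
    (hv : (rels.all fun r => chk (ex W r)) = true) : ∀ r ∈ rels, ev (lt (fun i => val (W i)) n) r = 1 := by
  intro r h1
  rw [h.ev_eq W (all_lt (List.all_eq_true.1 hr r h1))]
  exact hchk _ (List.all_eq_true.1 hv r h1)

/-- an element given by a word in the letters is in the group generated by the letters -/
theorem Val.mem {val : List σ → X} (h : Val val) (W : ℕ → List σ) {n : ℕ} {r : List ℕ}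
    (hr : (r.all fun y => Nat.blt y (2 * n)) = true) : val (ex W r) ∈ clo (fun i => val (W i)) n := by
  rw [← h.ev_eq W (all_lt hr)]
  generalize (fun i => val (W i)) = b
  clear hr
  induction r with
  | nil => rw [ev_nil]; exact one_mem _
  | cons y r ih => rw [ev_cons]; exact mul_mem (lt_mem b n) ih

theorem odd_of_cube {G : Type*} [Group G] {x : G} (h : x * x * x = 1) : Odd (orderOf x) := by
  have h1 : x ^ 3 = 1 := by rw [pow_succ, pow_two, h]
  exact Odd.of_dvd_nat (by decide) (orderOf_dvd_of_pow_eq_one h1)

/-- pull back along an isomorphism -/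
theorem cov_equiv {L Y : Type*} [Group L] [Group Y] {π : L →* X} (h : Cov π) (e : X ≃* Y) :
    Cov (e.toMonoidHom.comp π) := by
  have hk : (e.toMonoidHom.comp π).ker = π.ker := by
    ext x
    rw [MonoidHom.mem_ker, MonoidHom.mem_ker]
    exact map_eq_one_iff e e.injective
  refine ⟨e.surjective.comp h.surj, ?_, ?_, h.perfect⟩
  · rw [hk]; exact h.central
  · rw [hk]; exact h.two

theorem ker_equiv {L Y : Type*} [Group L] [Group Y] (π : L →* X) (e : X ≃* Y) :
    (e.toMonoidHom.comp π).ker = π.ker := by
  ext x
  rw [MonoidHom.mem_ker, MonoidHom.mem_ker]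
  exact map_eq_one_iff e e.injective

end Cfsg.Agent.KFacts.MulP.Words
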